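import Cfsg.Agent.Fi23Mult.PointBase

/-! Pieces of the comparison of a conjugate transposition with a generator. -/

set_option autoImplicit false
set_option maxRecDepth 100000
set_option Elab.async false

namespace CfsgLib.Fi23Mult

open CfsgLib.CosetEnum

theorem conjPiece0 : allR conjEntry 10 0 = true := by decide +kernel

theorem conjPiece1 : allR conjEntry 10 1024 = true := by decide +kernel

theorem conjPiece2 : allR conjEntry 10 2048 = true := by decide +kernel

theorem conjPiece3 : allR conjEntry 10 3072 = true := by decide +kernel

theorem conjPiece4 : allR conjEntry 10 4096 = true := by decide +kernel

theorem conjPiece5 : allR conjEntry 10 5120 = true := by decide +kernel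

theorem conjPiece6 : allR conjEntry 10 6144 = true := by decide +kernel

theorem conjPiece7 : allR conjEntry 10 7168 = true := by decide +kernel

end CfsgLib.Fi23Mult
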