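import Cfsg.Agent.Fi23Mult.PointBase

/-! Pieces of the comparison of a conjugate transposition with a generator. -/

set_option autoImplicit false
set_option maxRecDepth 100000
set_option Elab.async false

namespace CfsgLib.Fi23Mult

open CfsgLib.CosetEnum

theorem conjPiece8 : allR conjEntry 10 8192 = true := by decide +kernel

theorem conjPiece9 : allR conjEntry 10 9216 = true := by decide +kernel

theorem conjPiece10 : allR conjEntry 10 10240 = true := by decide +kernel

theorem conjPiece11 : allR conjEntry 10 11264 = true := by decide +kernel

theorem conjPiece12 : allR conjEntry 10 12288 = true := by decide +kernel

theorem conjPiece13 : allR conjEntry 10 13312 = true := by decide +kernel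

theorem conjPiece14 : allR conjEntry 10 14336 = true := by decide +kernel

theorem conjPiece15 : allR conjEntry 10 15360 = true := by decide +kernel

end CfsgLib.Fi23Mult
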