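import Cfsg.Agent.Fi23Mult.PointBase

/-! Pieces of the comparison of a conjugate transposition with a generator. -/

set_option autoImplicit false
set_option maxRecDepth 100000
set_option Elab.async false

namespace CfsgLib.Fi23Mult

open CfsgLib.CosetEnum

theorem conjPiece16 : allR conjEntry 10 16384 = true := by decide +kernel

theorem conjPiece17 : allR conjEntry 10 17408 = true := by decide +kernel

theorem conjPiece18 : allR conjEntry 10 18432 = true := by decide +kernel

theorem conjPiece19 : allR conjEntry 10 19456 = true := by decide +kernel

theorem conjPiece20 : allR conjEntry 10 20480 = true := by decide +kernel

theorem conjPiece21 : allR conjEntry 10 21504 = true := by decide +kernel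

theorem conjPiece22 : allR conjEntry 10 22528 = true := by decide +kernel

theorem conjPiece23 : allR conjEntry 10 23552 = true := by decide +kernel

end CfsgLib.Fi23Mult
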