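import Cfsg.Agent.Fi23Mult.PointBase

/-! Pieces of the comparison of a conjugate transposition with a generator. -/

set_option autoImplicit false
set_option maxRecDepth 100000
set_option Elab.async false

namespace CfsgLib.Fi23Mult

open CfsgLib.CosetEnum

theorem conjPiece24 : allR conjEntry 10 24576 = true := by decide +kernel

theorem conjPiece25 : allR conjEntry 10 25600 = true := by decide +kernel

theorem conjPiece26 : allR conjEntry 10 26624 = true := by decide +kernel

theorem conjPiece27 : allR conjEntry 10 27648 = true := by decide +kernel

theorem conjPiece28 : allR conjEntry 10 28672 = true := by decide +kernel

theorem conjPiece29 : allR conjEntry 10 29696 = true := by decide +kernel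

theorem conjPiece30 : allR conjEntry 10 30720 = true := by decide +kernel

end CfsgLib.Fi23Mult
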