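import Cfsg.Agent.Fi23Mult.Coxeter
import Cfsg.Prelude.Def_KGroupFacts

/-!
The Schur multiplier of the presented `Fi₂₃` is trivial, given its finiteness and eight word identities.
The lift `u` of the spider relator is a translation of the affine `E₆` subgroup of order dividing three
which is inverted by an element exchanging two pairs of translations.
-/

set_option autoImplicit false
set_option linter.constructorNameAsVariable false

namespace CfsgLib.Fi23Mult

open Cfsg.Spor

/-- The word identities used. -/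
structure GroupFacts : Prop where
  tB : ev gen (conjW ++ pB ++ conjW.reverse) = ev gen pC
  tC : ev gen (conjW ++ pC ++ conjW.reverse) = ev gen pB
  tE : ev gen (conjW ++ pE ++ conjW.reverse) = ev gen pF
  tF : ev gen (conjW ++ pF ++ conjW.reverse) = ev gen pE
  rB : ev gen (conjW ++ [1] ++ conjW.reverse) = ev gen [2]
  rC : ev gen (conjW ++ [2] ++ conjW.reverse) = ev gen [1]
  rE : ev gen (conjW ++ [4] ++ conjW.reverse) = ev gen [5]
  rF : ev gen (conjW ++ [5] ++ conjW.reverse) = ev gen ((pE ++ pE) ++ [4] ++ (pE ++ pE).reverse)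

section

variable {Γ : Type*} [Group Γ]

theorem ev_replicate (X : ℕ → Γ) (w : List ℕ) (n : ℕ) :
    ev X (List.replicate n w).flatten = ev X w ^ n := by
  induction n with
  | zero => simp [ev]
  | succ n ih => rw [List.replicate_succ, List.flatten_cons, ev_append, ih, pow_succ']

/-- Conjugation carries an inverted element of order three exactly. -/
theorem conj_exact {G P P' R R' T : Γ} (hP : P ^ 3 = 1) (hP' : P' ^ 3 = 1) (hR : R * R = 1)
    (hR' : R' * R' = 1) (hinv : R * P * R = P⁻¹) (hinv' : R' * P' * R' = P'⁻¹) (hT : Commute T P')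
    (hk : ∀ y, Commute (G * P * G⁻¹ * P'⁻¹) y)
    (hl : ∀ y, Commute (G * R * G⁻¹ * (T * R' * T⁻¹)⁻¹) y) : G * P * G⁻¹ = P' := by
  generalize hkk : G * P * G⁻¹ * P'⁻¹ = k at hk
  generalize hll : G * R * G⁻¹ * (T * R' * T⁻¹)⁻¹ = l at hl
  have eP : G * P * G⁻¹ = k * P' := by rw [← hkk, inv_mul_cancel_right]
  have eR : G * R * G⁻¹ = l * (T * R' * T⁻¹) := by rw [← hll, inv_mul_cancel_right]
  generalize hS : T * R' * T⁻¹ = S at eR
  have hS2 : S * S = 1 := by
    rw [← hS, show T * R' * T⁻¹ * (T * R' * T⁻¹) = T * (R' * R') * T⁻¹ by group, hR', mul_one,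
      mul_inv_cancel]
  have hSP : S * P' * S = P'⁻¹ := by
    rw [← hS, show T * R' * T⁻¹ * P' * (T * R' * T⁻¹) = T * R' * (T⁻¹ * P' * T) * R' * T⁻¹ by group,
      show T⁻¹ * P' * T = P' by rw [mul_assoc, ← hT.eq, inv_mul_cancel_left],
      show T * R' * P' * R' * T⁻¹ = T * (R' * P' * R') * T⁻¹ by group, hinv', hT.inv_right.eq,
      mul_inv_cancel_right]
  have hl2 : l * l = 1 := by
    have h : l * S * (l * S) = 1 := by
      rw [← eR, show G * R * G⁻¹ * (G * R * G⁻¹) = G * (R * R) * G⁻¹ by group, hR, mul_one, mul_inv_cancel]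
    rwa [← mul_assoc, mul_assoc l, ← (hl S).eq, ← mul_assoc, mul_assoc (l * l), hS2, mul_one] at h
  have h1 : k * P'⁻¹ = k⁻¹ * P'⁻¹ := by
    calc k * P'⁻¹ = l * l * k * (S * P' * S) := by rw [hl2, one_mul, hSP]
      _ = l * (l * k) * (S * P' * S) := by rw [mul_assoc l l k]
      _ = l * (S * (l * k) * P') * S := by
        rw [← ((hl S).mul_left (hk S)).eq]; simp only [mul_assoc]
      _ = l * S * (k * P') * (l * S) := by
        rw [(hl k).eq, show l * S * (k * P') * (l * S) = l * S * k * (P' * l) * S by simp only [mul_assoc],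
          ← (hl P').eq]
        simp only [mul_assoc]
      _ = (G * R * G⁻¹) * (G * P * G⁻¹) * (G * R * G⁻¹) := by rw [eR, eP]
      _ = G * (R * P * R) * G⁻¹ := by group
      _ = (G * P * G⁻¹)⁻¹ := by rw [hinv]; group
      _ = k⁻¹ * P'⁻¹ := by rw [eP, mul_inv_rev, ((hk P').inv_left.inv_right).eq]
  have hk2 : k * k = 1 := by
    have := mul_right_cancel h1
    calc k * k = k * k⁻¹ := by rw [← this]
      _ = 1 := mul_inv_cancel k
  have hk3 : k ^ 3 = 1 := by
    have : (k * P') ^ 3 = 1 := by rw [← eP, conj_pow, hP]; simp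
    rwa [(hk P').mul_pow, hP', mul_one] at this
  have : k = 1 := by rw [pow_succ, pow_two, hk2, one_mul] at hk3; exact hk3
  rw [eP, this, one_mul]

variable (σ : Γ →* Cfsg.Spor.Fi23) (hc : σ.ker ≤ Subgroup.center Γ)

include hc

/-- The tenth power of the lifted spider word is trivial. -/
theorem spider_eq_one (F : GroupFacts) (X : ℕ → Γ) (hX : ∀ x, x < 10 → σ (X x) = gen x)
    (h : IsLift X 1) : ev X uW = 1 := by
  have hsq := h.sq
  have hrev : ∀ w : List ℕ, w.all (fun x => Nat.blt x 10) = true → ev X w.reverse = (ev X w)⁻¹ :=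
    fun w hw => ev_reverse hsq w fun x hx => by
      have := List.all_eq_true.mp hw x hx
      simpa using this
  have hlet : ∀ x, x < 10 → X x * X x = 1 := hsq
  have one_ev : ∀ x, ev X [x] = X x := fun x => by simp [ev]
  have hu : σ (ev X uW) = 1 := by
    rw [map_ev σ X hX uW (by decide), uW, ev_replicate]
    exact gen_spider
  have huc := central_of σ hc hu
  have lhs1 : ∀ x, x < 10 → ev X ([x] ++ uW ++ [x] ++ uW.reverse) = 1 := fun x hx => by
    rw [ev_append, ev_append, ev_append, hrev uW (by decide), one_ev, ← (huc (X x)).eq,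
      mul_assoc (ev X uW), hlet x hx, mul_one, mul_inv_cancel]
  have cB : (ev X pB)⁻¹ ^ 3 = 1 := by
    have e := (ev_eq_of_reducesTo h certI2b (by decide)).symm.trans (lhs1 1 (by norm_num))
    simp only [ev_append, hrev pB (by decide)] at e
    rw [pow_three, ← mul_assoc]
    exact e
  have cC : (ev X pC)⁻¹ ^ 3 = 1 := by
    have e := (ev_eq_of_reducesTo h certI2c (by decide)).symm.trans (lhs1 2 (by norm_num))
    simp only [ev_append] at e
    rw [inv_pow, pow_three, ← mul_assoc, e, inv_one]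
  have cD : (ev X pD)⁻¹ ^ 3 = 1 := by
    have e := (ev_eq_of_reducesTo h certI2d (by decide)).symm.trans (lhs1 3 (by norm_num))
    simp only [ev_append] at e
    rw [inv_pow, pow_three, ← mul_assoc, e, inv_one]
  have cF : (ev X pF)⁻¹ ^ 3 = 1 := by
    have e := (ev_eq_of_reducesTo h certI2f (by decide)).symm.trans (lhs1 5 (by norm_num))
    simp only [ev_append, hrev pF (by decide)] at e
    rw [pow_three, ← mul_assoc]
    exact e
  have cH : (ev X pH)⁻¹ ^ 3 = 1 := by
    have e := (ev_eq_of_reducesTo h certI2h (by decide)).symm.trans (lhs1 8 (by norm_num))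
    simp only [ev_append, hrev pH (by decide)] at e
    rw [pow_three, ← mul_assoc]
    exact e
  have mBC : Commute (ev X pB) (ev X pC) := by
    have e := ev_eq_of_reducesTo h certCbc (by decide)
    rwa [ev_append, ev_append] at e
  have mBE : Commute (ev X pB) (ev X pE) := by
    have e := ev_eq_of_reducesTo h certCbe (by decide)
    rwa [ev_append, ev_append] at e
  have mBF : Commute (ev X pB) (ev X pF) := by
    have e := ev_eq_of_reducesTo h certCbf (by decide)
    rwa [ev_append, ev_append] at e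
  have mCE : Commute (ev X pC) (ev X pE) := by
    have e := ev_eq_of_reducesTo h certCce (by decide)
    rwa [ev_append, ev_append] at e
  have mCF : Commute (ev X pC) (ev X pF) := by
    have e := ev_eq_of_reducesTo h certCcf (by decide)
    rwa [ev_append, ev_append] at e
  have mEF : Commute (ev X pE) (ev X pF) := by
    have e := ev_eq_of_reducesTo h certCef (by decide)
    rwa [ev_append, ev_append] at e
  have cE : (ev X pE)⁻¹ ^ 3 = 1 := by
    have e := ev_eq_of_reducesTo h certI2e (by decide)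
    rw [ev_append, ev_append, ev_append, one_ev] at e
    have h1 : (ev X pE * ev X pF) ^ 3 = 1 := by
      rw [← e]
      have hxi : (X 4)⁻¹ = X 4 := inv_eq_of_mul_eq_one_right (hlet 4 (by norm_num))
      conv_lhs => arg 1; rw [show X 4 * ev X pF * X 4 = X 4 * ev X pF * (X 4)⁻¹ by rw [hxi]]
      have hF : ev X pF ^ 3 = 1 := by rwa [inv_pow, inv_eq_one] at cF
      rw [conj_pow, hF, mul_one, mul_inv_cancel]
    rw [inv_pow, inv_eq_one]
    rw [mEF.mul_pow] at h1
    have hF : ev X pF ^ 3 = 1 := by rwa [inv_pow, inv_eq_one] at cF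
    rwa [hF, mul_one] at h1
  have s1 : ev X r1 = (ev X pB)⁻¹ ^ 2 := by
    have e := ev_eq_of_reducesTo h certStep1 (by decide)
    rw [ev_append, ev_replicate, hrev pB (by decide), ev_nil, one_mul] at e
    exact e.symm
  have s2 : ev X r2 = ev X r1 * (ev X pC)⁻¹ ^ 3 := by
    have e := ev_eq_of_reducesTo h certStep2 (by decide)
    rw [ev_append, ev_replicate, hrev pC (by decide)] at e
    exact e.symm
  have s3 : ev X r3 = ev X r2 * (ev X pC)⁻¹ ^ 3 := by
    have e := ev_eq_of_reducesTo h certStep3 (by decide)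
    rw [ev_append, ev_replicate, hrev pC (by decide)] at e
    exact e.symm
  have s4 : ev X r4 = ev X r3 * (ev X pC)⁻¹ ^ 1 := by
    have e := ev_eq_of_reducesTo h certStep4 (by decide)
    rw [ev_append, ev_replicate, hrev pC (by decide)] at e
    exact e.symm
  have s5 : ev X r5 = ev X r4 * (ev X pD)⁻¹ ^ 3 := by
    have e := ev_eq_of_reducesTo h certStep5 (by decide)
    rw [ev_append, ev_replicate, hrev pD (by decide)] at e
    exact e.symm
  have s6 : ev X r6 = ev X r5 * (ev X pD)⁻¹ ^ 3 := by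
    have e := ev_eq_of_reducesTo h certStep6 (by decide)
    rw [ev_append, ev_replicate, hrev pD (by decide)] at e
    exact e.symm
  have s7 : ev X r7 = ev X r6 * (ev X pD)⁻¹ ^ 3 := by
    have e := ev_eq_of_reducesTo h certStep7 (by decide)
    rw [ev_append, ev_replicate, hrev pD (by decide)] at e
    exact e.symm
  have s8 : ev X r8 = ev X r7 * (ev X pE)⁻¹ ^ 3 := by
    have e := ev_eq_of_reducesTo h certStep8 (by decide)
    rw [ev_append, ev_replicate, hrev pE (by decide)] at e
    exact e.symm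
  have s9 : ev X r9 = ev X r8 * (ev X pE)⁻¹ ^ 2 := by
    have e := ev_eq_of_reducesTo h certStep9 (by decide)
    rw [ev_append, ev_replicate, hrev pE (by decide)] at e
    exact e.symm
  have s10 : ev X r10 = ev X r9 * (ev X pF)⁻¹ ^ 1 := by
    have e := ev_eq_of_reducesTo h certStep10 (by decide)
    rw [ev_append, ev_replicate, hrev pF (by decide)] at e
    exact e.symm
  have s11 : ev X r11 = ev X r10 * (ev X pH)⁻¹ ^ 3 := by
    have e := ev_eq_of_reducesTo h certStep11 (by decide)
    rw [ev_append, ev_replicate, hrev pH (by decide)] at e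
    exact e.symm
  have hU : ev X uW = (ev X pB)⁻¹ ^ 2 * (ev X pC)⁻¹ * ((ev X pE)⁻¹ ^ 2 * (ev X pF)⁻¹) := by
    rw [ev_eq_of_reducesTo h certI3 (by decide), s11, s10, s9, s8, s7, s6, s5, s4, s3, s2, s1]
    simp only [cC, cD, cE, cH, mul_one, pow_one, mul_assoc]
  have hq : ∀ w : List ℕ, (ev X w)⁻¹ ^ 3 = 1 → ev X w ^ 3 = 1 := fun w hw => by
    rwa [inv_pow, inv_eq_one] at hw
  have inv1 : ∀ (x : ℕ) (w : List ℕ), ev X ([x] ++ w ++ [x]) = ev X w.reverse →
      w.all (fun x => Nat.blt x 10) = true → X x * ev X w * X x = (ev X w)⁻¹ := fun x w e hw => by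
    rw [← hrev w hw, ← e, ev_append, ev_append, one_ev]
  have iB := inv1 1 pB (ev_eq_of_reducesTo h certInvb (by decide)) (by decide)
  have iC := inv1 2 pC (ev_eq_of_reducesTo h certInvc (by decide)) (by decide)
  have iE := inv1 4 pE (ev_eq_of_reducesTo h certInve (by decide)) (by decide)
  have iF := inv1 5 pF (ev_eq_of_reducesTo h certInvf (by decide)) (by decide)
  have hcen : ∀ v w : List ℕ, (conjW ++ v ++ conjW.reverse).all (fun x => Nat.blt x 10) = true →
      w.all (fun x => Nat.blt x 10) = true →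
      ev gen (conjW ++ v ++ conjW.reverse) = ev gen w →
      ∀ y, Commute (ev X conjW * ev X v * (ev X conjW)⁻¹ * (ev X w)⁻¹) y := fun v w hv hw e => by
    have hm : ∀ z : List ℕ, z.all (fun x => Nat.blt x 10) = true → σ (ev X z) = ev gen z := fun z hz =>
      map_ev σ X hX z fun x hx => by
        have := List.all_eq_true.mp hz x hx
        simpa using this
    apply central_of σ hc
    rw [← hrev conjW (by decide), ← ev_append, ← ev_append, map_mul, map_inv, hm _ hv, hm _ hw, e,
      mul_inv_cancel]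
  have gB : ev X conjW * ev X pB * (ev X conjW)⁻¹ = ev X pC :=
    conj_exact (T := 1) (hq pB cB) (hq pC cC) (hlet 1 (by norm_num)) (hlet 2 (by norm_num)) iB iC
      (Commute.one_left _) (hcen pB pC (by decide) (by decide) F.tB)
      (by
        have e := hcen [1] [2] (by decide) (by decide) F.rB
        simpa [one_ev] using e)
  have gC : ev X conjW * ev X pC * (ev X conjW)⁻¹ = ev X pB :=
    conj_exact (T := 1) (hq pC cC) (hq pB cB) (hlet 2 (by norm_num)) (hlet 1 (by norm_num)) iC iB
      (Commute.one_left _) (hcen pC pB (by decide) (by decide) F.tC)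
      (by
        have e := hcen [2] [1] (by decide) (by decide) F.rC
        simpa [one_ev] using e)
  have gE : ev X conjW * ev X pE * (ev X conjW)⁻¹ = ev X pF :=
    conj_exact (T := 1) (hq pE cE) (hq pF cF) (hlet 4 (by norm_num)) (hlet 5 (by norm_num)) iE iF
      (Commute.one_left _) (hcen pE pF (by decide) (by decide) F.tE)
      (by
        have e := hcen [4] [5] (by decide) (by decide) F.rE
        simpa [one_ev] using e)
  have gF : ev X conjW * ev X pF * (ev X conjW)⁻¹ = ev X pE :=
    conj_exact (T := ev X (pE ++ pE)) (hq pF cF) (hq pE cE) (hlet 5 (by norm_num)) (hlet 4 (by norm_num)) iF iE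
      (by rw [ev_append]; exact (Commute.refl _).mul_left (Commute.refl _))
      (hcen pF pE (by decide) (by decide) F.tF)
      (by
        have e := hcen [5] ((pE ++ pE) ++ [4] ++ (pE ++ pE).reverse) (by decide) (by decide) F.rF
        rw [one_ev, ev_append ((pE ++ pE) ++ [4]), ev_append (pE ++ pE), hrev (pE ++ pE) (by decide), one_ev] at e
        exact e)
  generalize hb : (ev X pB)⁻¹ = b at hU cB
  generalize hc' : (ev X pC)⁻¹ = c at hU cC
  generalize he : (ev X pE)⁻¹ = e at hU cE
  generalize hf : (ev X pF)⁻¹ = f at hU cF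
  have kBC : Commute b c := by rw [← hb, ← hc']; exact mBC.inv_inv
  have kBE : Commute b e := by rw [← hb, ← he]; exact mBE.inv_inv
  have kBF : Commute b f := by rw [← hb, ← hf]; exact mBF.inv_inv
  have kCE : Commute c e := by rw [← hc', ← he]; exact mCE.inv_inv
  have kCF : Commute c f := by rw [← hc', ← hf]; exact mCF.inv_inv
  have kEF : Commute e f := by rw [← he, ← hf]; exact mEF.inv_inv
  have hconj : ev X uW = c ^ 2 * b * (f ^ 2 * e) := by
    have h1 : ev X conjW * ev X uW * (ev X conjW)⁻¹ = ev X uW := by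
      rw [← (huc (ev X conjW)).eq, mul_inv_cancel_right]
    have hinv : ∀ p q : Γ, ev X conjW * p * (ev X conjW)⁻¹ = q →
        ev X conjW * p⁻¹ * (ev X conjW)⁻¹ = q⁻¹ := fun p q e => by rw [← e]; group
    have e1 := hinv _ _ gB
    have e2 := hinv _ _ gC
    have e3 := hinv _ _ gE
    have e4 := hinv _ _ gF
    rw [hb, hc'] at e1
    rw [hc', hb] at e2
    rw [he, hf] at e3
    rw [hf, he] at e4
    rw [← h1, hU]
    generalize ev X conjW = G at e1 e2 e3 e4
    rw [show G * (b ^ 2 * c * (e ^ 2 * f)) * G⁻¹ =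
      (G * b * G⁻¹) ^ 2 * (G * c * G⁻¹) * ((G * e * G⁻¹) ^ 2 * (G * f * G⁻¹)) by
        rw [conj_pow, conj_pow]; group, e1, e2, e3, e4]
  have hsq2 : ev X uW * ev X uW = 1 := by
    have hcom : Commute (e ^ 2 * f) (c ^ 2 * b) :=
      Commute.mul_left
        (((kCE.symm.pow_pow 2 2)).mul_right (kBE.symm.pow_left 2))
        ((kCF.symm.pow_right 2).mul_right kBF.symm)
    calc ev X uW * ev X uW = b ^ 2 * c * (e ^ 2 * f) * (c ^ 2 * b * (f ^ 2 * e)) := by
          rw [← hconj, hU]
      _ = b ^ 2 * c * (e ^ 2 * f * (c ^ 2 * b)) * (f ^ 2 * e) := by simp only [mul_assoc]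
      _ = b ^ 2 * c * (c ^ 2 * b * (e ^ 2 * f)) * (f ^ 2 * e) := by rw [hcom.eq]
      _ = b ^ 2 * (c * c ^ 2) * b * (e ^ 2 * (f * f ^ 2) * e) := by simp only [mul_assoc]
      _ = 1 := by
        rw [← pow_succ', ← pow_succ', cC, cF, mul_one, mul_one, ← pow_succ, ← pow_succ, cB, cE, mul_one]
  have hcube : ev X uW ^ 3 = 1 := by
    have hcom : Commute (b ^ 2 * c) (e ^ 2 * f) :=
      Commute.mul_left ((kBE.pow_pow 2 2).mul_right (kBF.pow_left 2)) ((kCE.pow_right 2).mul_right kCF)
    rw [hU, hcom.mul_pow, (kBC.pow_left 2).mul_pow, (kEF.pow_left 2).mul_pow, ← pow_mul, ← pow_mul,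
      mul_comm 2 3, pow_mul, pow_mul, cB, cC, cE, cF]
    simp
  rw [pow_succ, pow_two, hsq2, one_mul] at hcube
  exact hcube

theorem exists_section (hs : Function.Surjective σ) (F : GroupFacts) :
    ∃ ρ : Cfsg.Spor.Fi23 →* Γ, σ.comp ρ = MonoidHom.id _ := by
  obtain ⟨X, hX, hL, he7⟩ := exists_lifts σ hc hs
  have hu := spider_eq_one σ hc F X hX hL
  have hrels : ∀ r ∈ coxRelators Fi23.edges ∪ {r | r ∈ Fi23.extra},
      FreeGroup.lift (fun a => X (ix a)) r = 1 := by
    rintro r (⟨a, -, b, -, rfl⟩ | hr)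
    · rw [map_pow, map_mul, FreeGroup.lift_apply_of, FreeGroup.lift_apply_of, label_eq]
      have ha := ix_lt a
      have hb := ix_lt b
      by_cases hab : a = b
      · subst hab
        rw [if_pos rfl, pow_one, hL.sq _ ha]
      · rw [if_neg hab]
        cases hadj : adj (ix a) (ix b) with
        | true =>
          rw [if_pos rfl, pow_three,
            show X (ix a) * X (ix b) * (X (ix a) * X (ix b) * (X (ix a) * X (ix b))) =
              X (ix a) * X (ix b) * X (ix a) * (X (ix b) * X (ix a) * X (ix b)) by simp only [mul_assoc],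
            ← hL.braid _ _ hadj,
            show X (ix a) * X (ix b) * X (ix a) * (X (ix a) * X (ix b) * X (ix a)) =
              X (ix a) * X (ix b) * (X (ix a) * X (ix a)) * X (ix b) * X (ix a) by simp only [mul_assoc],
            hL.sq _ ha, mul_one, mul_assoc (X (ix a)), hL.sq _ hb, mul_one, hL.sq _ ha]
        | false =>
          have hne : ix a ≠ ix b := fun e => hab (by rw [← en_ix a, e, en_ix])
          rw [if_neg (by simp), pow_two,
            show X (ix a) * X (ix b) * (X (ix a) * X (ix b)) = X (ix a) * (X (ix b) * X (ix a)) * X (ix b) by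
              simp only [mul_assoc],
            ← hL.comm _ _ ha hb hne hadj, ← mul_assoc, hL.sq _ ha, one_mul, hL.sq _ hb]
    · change r ∈ Fi23.extra at hr
      simp only [Fi23.extra, List.mem_cons, List.not_mem_nil, or_false] at hr
      rcases hr with rfl | rfl
      · rw [uW, ev_replicate] at hu
        simpa [ev, spiderW, ix, Fi23.a, Fi23.b, Fi23.c, Fi23.d, Fi23.e, Fi23.f, Fi23.h, Fi23.i, mul_assoc]
          using hu
      · simpa [ev, e7W, ix, Fi23.a, Fi23.b, Fi23.c, Fi23.d, Fi23.e, Fi23.f, Fi23.h, mul_assoc] using he7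
  refine ⟨PresentedGroup.toGroup hrels, PresentedGroup.ext fun a => ?_⟩
  rw [MonoidHom.comp_apply, PresentedGroup.toGroup.of, hX _ (ix_lt a), gen, en_ix]
  rfl

omit hc in
/-- Every stem extension is trivial. -/
theorem ker_eq_bot (hσ : Cfsg.IsStemExtension σ) (F : GroupFacts) : σ.ker = ⊥ := by
  obtain ⟨ρ, hρ⟩ := exists_section σ hσ.2.1 hσ.1 F
  have hρ' : ∀ x, σ (ρ x) = x := fun x => DFunLike.congr_fun hρ x
  have hle : commutator Γ ≤ ρ.range := by
    rw [commutator_eq_closure]
    refine (Subgroup.closure_le _).mpr ?_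
    rintro _ ⟨x, y, rfl⟩
    have hk : ∀ z : Γ, ∀ w : Γ, Commute (z * (ρ (σ z))⁻¹) w := fun z =>
      central_of σ hσ.2.1 (by rw [map_mul, map_inv, hρ', mul_inv_cancel])
    refine ⟨σ x * σ y * (σ x)⁻¹ * (σ y)⁻¹, ?_⟩
    have hx := hk x
    have hy := hk y
    generalize hA : x * (ρ (σ x))⁻¹ = p at hx
    generalize hB : y * (ρ (σ y))⁻¹ = q at hy
    rw [map_mul, map_mul, map_mul, map_inv, map_inv]
    have ex : x = p * ρ (σ x) := by rw [← hA, inv_mul_cancel_right]
    have ey : y = q * ρ (σ y) := by rw [← hB, inv_mul_cancel_right]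
    conv_rhs => rw [ex, ey]
    generalize ρ (σ x) = a, ρ (σ y) = b
    simp only [commutatorElement_def, mul_inv_rev]
    rw [show p * a * (q * b) * (a⁻¹ * p⁻¹) * (b⁻¹ * q⁻¹) =
        p * (a * q) * b * a⁻¹ * (p⁻¹ * b⁻¹) * q⁻¹ by simp only [mul_assoc], ← (hy a).eq,
      (hx b⁻¹).inv_left.eq,
      show p * (q * a) * b * a⁻¹ * (b⁻¹ * p⁻¹) * q⁻¹ = p * q * (a * b * a⁻¹ * b⁻¹) * (p⁻¹ * q⁻¹) by
        simp only [mul_assoc],
      ((hx (a * b * a⁻¹ * b⁻¹)).mul_left (hy _)).eq, mul_assoc (a * b * a⁻¹ * b⁻¹),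
      (hx q).eq, show q * p * (p⁻¹ * q⁻¹) = 1 by group, mul_one]
  refine (Subgroup.eq_bot_iff_forall _).mpr fun z hz => ?_
  obtain ⟨v, rfl⟩ := hle (hσ.2.2 hz)
  have hv : σ (ρ v) = 1 := hz
  rw [hρ'] at hv
  rw [hv, map_one]

end

/-- The Schur multiplier of the presented `Fi₂₃` is trivial, given finiteness and the word identities. -/
theorem hasCyclicSchurMultiplier_one [hfin : Finite Cfsg.Spor.Fi23] (F : GroupFacts) :
    Cfsg.HasCyclicSchurMultiplier Cfsg.Spor.Fi23 1 := by
  have : Subsingleton (Multiplicative (ZMod 1)) := inferInstanceAs (Subsingleton (Fin 1))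
  refine ⟨⟨Cfsg.Spor.Fi23, inferInstance, hfin, MonoidHom.id _, ⟨Function.surjective_id, ?_, ?_⟩, ?_⟩, ?_⟩
  · rw [MonoidHom.ker_id]; exact bot_le
  · rw [MonoidHom.ker_id]; exact bot_le
  · have : Subsingleton (MonoidHom.id Cfsg.Spor.Fi23).ker := by
      rw [MonoidHom.ker_id]; infer_instance
    exact ⟨{ toFun := fun _ => 1, invFun := fun _ => 1, left_inv := fun _ => Subsingleton.elim _ _,
             right_inv := fun _ => Subsingleton.elim _ _, map_mul' := fun _ _ => Subsingleton.elim _ _ }⟩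
  · intro Γ _ _ σ hσ
    refine ⟨1, fun z => ⟨1, ?_⟩⟩
    have hb := ker_eq_bot σ hσ F
    have : z.1 ∈ (⊥ : Subgroup Γ) := hb ▸ z.2
    exact Subtype.ext (by simpa using (Subgroup.mem_bot.mp this).symm)

end CfsgLib.Fi23Mult
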