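import Cfsg.Agent.Fi23Mult.Lifts
import Cfsg.Agent.Fi23Mult.Certs

/-!
Lifts of the generators of `Fi₂₃` to a central extension satisfy the Coxeter relations and the
relator of type `E₇`.
-/

set_option autoImplicit false

namespace CfsgLib.Fi23Mult

open Cfsg.Spor

section

variable {Γ : Type*} [Group Γ]

theorem ev_conj (Z : Γ) (X : ℕ → Γ) (z : Γ) (hz : ∀ y, Commute z y) :
    ∀ w : List ℕ, (∀ x ∈ w, Z * X x * Z⁻¹ = z * X x) → Z * ev X w * Z⁻¹ = z ^ w.length * ev X w := by
  intro w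
  induction w with
  | nil => intro _; simp [ev]
  | cons x w ih =>
    intro h
    rw [ev_cons, show Z * (X x * ev X w) * Z⁻¹ = Z * X x * Z⁻¹ * (Z * ev X w * Z⁻¹) by group,
      h x List.mem_cons_self, ih fun y hy => h y (List.mem_cons_of_mem x hy), List.length_cons, pow_succ',
      mul_assoc, ← mul_assoc (X x), ← ((hz (X x)).pow_left w.length).eq]
    simp only [mul_assoc]

theorem ev_scale (t : Γ) (X : ℕ → Γ) (ht : ∀ y, Commute t y) :
    ∀ w : List ℕ, ev (fun x => t * X x) w = t ^ w.length * ev X w := by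
  intro w
  induction w with
  | nil => simp [ev]
  | cons x w ih =>
    rw [ev_cons, ev_cons, ih, List.length_cons, pow_succ', mul_assoc, ← mul_assoc (X x),
      ← ((ht (X x)).pow_left w.length).eq]
    simp only [mul_assoc]

variable (σ : Γ →* Cfsg.Spor.Fi23) (hc : σ.ker ≤ Subgroup.center Γ)

include hc

omit hc in
/-- Two central commutators with lifts of adjacent generators are equal. -/
theorem eq_of_braid_conj {Z Y Y' z z' : Γ} (hz : ∀ y, Commute z y) (hz' : ∀ y, Commute z' y)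
    (hb : Y * Y' * Y = Y' * Y * Y') (h : Z * Y * Z⁻¹ = z * Y) (h' : Z * Y' * Z⁻¹ = z' * Y') : z = z' := by
  have e1 : Z * (Y * Y' * Y) * Z⁻¹ = z * z' * z * (Y * Y' * Y) := by
    rw [show Z * (Y * Y' * Y) * Z⁻¹ = Z * Y * Z⁻¹ * (Z * Y' * Z⁻¹) * (Z * Y * Z⁻¹) by group, h, h',
      show z * Y * (z' * Y') * (z * Y) = z * (Y * z') * (Y' * z) * Y by simp only [mul_assoc],
      ← (hz' Y).eq, ← (hz Y').eq, show z * (z' * Y) * (z * Y') * Y = z * z' * (Y * z) * (Y' * Y) by
        simp only [mul_assoc], ← (hz Y).eq]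
    simp only [mul_assoc]
  have e2 : Z * (Y' * Y * Y') * Z⁻¹ = z' * z * z' * (Y' * Y * Y') := by
    rw [show Z * (Y' * Y * Y') * Z⁻¹ = Z * Y' * Z⁻¹ * (Z * Y * Z⁻¹) * (Z * Y' * Z⁻¹) by group, h, h',
      show z' * Y' * (z * Y) * (z' * Y') = z' * (Y' * z) * (Y * z') * Y' by simp only [mul_assoc],
      ← (hz Y').eq, ← (hz' Y).eq, show z' * (z * Y') * (z' * Y) * Y' = z' * z * (Y' * z') * (Y * Y') by
        simp only [mul_assoc], ← (hz' Y').eq]
    simp only [mul_assoc]
  rw [hb, e2] at e1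
  have e3 := mul_right_cancel e1
  rw [(hz z').eq] at e3
  exact (mul_left_cancel e3).symm

/-- The lifts of commuting generators commute. -/
theorem comm_lifts (X : ℕ → Γ) (hX : ∀ x, x < 10 → σ (X x) = gen x)
    (hbr : ∀ x y, adj x y = true → X x * X y * X x = X y * X x * X y)
    (hsq : ∀ x, x < 10 → X x * X x = X 0 * X 0) (hs0 : ∀ y, Commute (X 0 * X 0) y) :
    ∀ x y, x < 10 → y < 10 → x ≠ y → adj x y = false → Commute (X x) (X y) := by
  have hcom : ∀ y, y < 10 → y ≠ 7 → adj 7 y = false →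
      ∃ z, σ z = 1 ∧ X 7 * X y * (X 7)⁻¹ = z * X y := fun y hy hne ha =>
    ⟨X 7 * X y * (X 7)⁻¹ * (X y)⁻¹, by
      simp only [map_mul, map_inv, hX 7 (by norm_num), hX y hy, gen_comm (by norm_num) hy (Ne.symm hne) ha]
      group, by rw [inv_mul_cancel_right]⟩
  obtain ⟨z0, s0, h0⟩ := hcom 0 (by norm_num) (by norm_num) (by decide)
  have k0 := central_of σ hc s0
  obtain ⟨z1, s1, h1⟩ := hcom 1 (by norm_num) (by norm_num) (by decide)
  have k1 := central_of σ hc s1
  obtain ⟨z2, s2, h2⟩ := hcom 2 (by norm_num) (by norm_num) (by decide)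
  have k2 := central_of σ hc s2
  obtain ⟨z3, s3, h3⟩ := hcom 3 (by norm_num) (by norm_num) (by decide)
  have k3 := central_of σ hc s3
  obtain ⟨z4, s4, h4⟩ := hcom 4 (by norm_num) (by norm_num) (by decide)
  have k4 := central_of σ hc s4
  obtain ⟨z5, s5, h5⟩ := hcom 5 (by norm_num) (by norm_num) (by decide)
  have k5 := central_of σ hc s5
  obtain ⟨z8, s8, h8⟩ := hcom 8 (by norm_num) (by norm_num) (by decide)
  have k8 := central_of σ hc s8
  have q1 : z1 = z0 := (eq_of_braid_conj k1 k0 (hbr 1 0 (by decide)) h1 h0).trans rfl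
  have q2 : z2 = z0 := (eq_of_braid_conj k2 k1 (hbr 2 1 (by decide)) h2 h1).trans q1
  have q3 : z3 = z0 := (eq_of_braid_conj k3 k2 (hbr 3 2 (by decide)) h3 h2).trans q2
  have q4 : z4 = z0 := (eq_of_braid_conj k4 k3 (hbr 4 3 (by decide)) h4 h3).trans q3
  have q5 : z5 = z0 := (eq_of_braid_conj k5 k4 (hbr 5 4 (by decide)) h5 h4).trans q4
  have q8 : z8 = z0 := (eq_of_braid_conj k8 k3 (hbr 8 3 (by decide)) h8 h3).trans q3
  rw [q1] at h1; rw [q2] at h2; rw [q3] at h3; rw [q4] at h4; rw [q5] at h5; rw [q8] at h8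
  have hz2 : z0 * z0 = 1 := by
    have h' : X 7 * (X 7 * X 0 * (X 7)⁻¹) * (X 7)⁻¹ = z0 * z0 * X 0 := by
      rw [h0, show X 7 * (z0 * X 0) * (X 7)⁻¹ = X 7 * z0 * X 0 * (X 7)⁻¹ by simp only [mul_assoc],
        ← (k0 (X 7)).eq, show z0 * X 7 * X 0 * (X 7)⁻¹ = z0 * (X 7 * X 0 * (X 7)⁻¹) by simp only [mul_assoc],
        h0, mul_assoc]
    have h'' : X 7 * (X 7 * X 0 * (X 7)⁻¹) * (X 7)⁻¹ = X 0 := by
      rw [show X 7 * (X 7 * X 0 * (X 7)⁻¹) * (X 7)⁻¹ = X 7 * X 7 * X 0 * (X 7 * X 7)⁻¹ by group,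
        hsq 7 (by norm_num), (hs0 (X 0)).eq, mul_inv_cancel_right]
    rw [h''] at h'
    exact mul_eq_right.mp h'.symm
  have hW : X 7 * ev X e7W * (X 7)⁻¹ = z0 ^ 7 * ev X e7W := ev_conj (X 7) X z0 k0 e7W (by
    intro x hx
    simp only [e7W, List.mem_cons, List.not_mem_nil, or_false] at hx
    rcases hx with rfl | rfl | rfl | rfl | rfl | rfl | rfl <;> assumption)
  have hv : σ (ev X e7W ^ 9) = 1 := by
    rw [map_pow, map_ev σ X hX e7W (by decide)]
    exact gen_e7
  have hz1 : z0 = 1 := by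
    have h1 : X 7 * ev X e7W ^ 9 * (X 7)⁻¹ = (z0 ^ 7) ^ 9 * ev X e7W ^ 9 := by
      rw [← ((k0 (ev X e7W)).pow_left 7).mul_pow, ← hW, conj_pow]
    rw [← (central_of σ hc hv (X 7)).eq, mul_inv_cancel_right] at h1
    have h63 : (z0 ^ 7) ^ 9 = 1 := mul_eq_right.mp h1.symm
    rw [← pow_mul, show 7 * 9 = 2 * 31 + 1 from rfl, pow_succ, pow_mul, pow_two, hz2, one_pow, one_mul] at h63
    exact h63
  subst hz1
  rw [one_mul] at h0
  have c7_0 : Commute (X 7) (X 0) := mul_inv_eq_iff_eq_mul.mp h0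
  rw [one_mul] at h1
  have c7_1 : Commute (X 7) (X 1) := mul_inv_eq_iff_eq_mul.mp h1
  rw [one_mul] at h2
  have c7_2 : Commute (X 7) (X 2) := mul_inv_eq_iff_eq_mul.mp h2
  rw [one_mul] at h3
  have c7_3 : Commute (X 7) (X 3) := mul_inv_eq_iff_eq_mul.mp h3
  rw [one_mul] at h4
  have c7_4 : Commute (X 7) (X 4) := mul_inv_eq_iff_eq_mul.mp h4
  rw [one_mul] at h5
  have c7_5 : Commute (X 7) (X 5) := mul_inv_eq_iff_eq_mul.mp h5
  rw [one_mul] at h8
  have c7_8 : Commute (X 7) (X 8) := mul_inv_eq_iff_eq_mul.mp h8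
  have mv : ∀ x y y', (x < 10 ∧ y' < 10 ∧ x ≠ y' ∧ adj x y' = false ∧ adj y y' = true) →
      Commute (X x) (X y) → Commute (X x) (X y') := fun x y y' ⟨hx, hy', hne, hn, ha⟩ h =>
    comm_move σ hc (hX x hx) (hX y' hy') (hbr y y' ha) (gen_comm hx hy' hne hn) h
  have c0_6 := mv 0 7 6 (by decide) c7_0.symm
  have c1_6 := mv 1 7 6 (by decide) c7_1.symm
  have c2_6 := mv 2 7 6 (by decide) c7_2.symm
  have c3_6 := mv 3 7 6 (by decide) c7_3.symm
  have c4_6 := mv 4 7 6 (by decide) c7_4.symm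
  have c7_9 := mv 7 8 9 (by decide) c7_8
  have c8_6 := mv 8 7 6 (by decide) c7_8.symm
  have c0_5 := mv 0 6 5 (by decide) c0_6
  have c1_5 := mv 1 6 5 (by decide) c1_6
  have c2_5 := mv 2 6 5 (by decide) c2_6
  have c3_5 := mv 3 6 5 (by decide) c3_6
  have c9_6 := mv 9 7 6 (by decide) c7_9.symm
  have c8_5 := mv 8 6 5 (by decide) c8_6
  have c0_4 := mv 0 5 4 (by decide) c0_5
  have c1_4 := mv 1 5 4 (by decide) c1_5
  have c2_4 := mv 2 5 4 (by decide) c2_5
  have c8_4 := mv 8 5 4 (by decide) c8_5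
  have c5_9 := mv 5 8 9 (by decide) c8_5.symm
  have c0_3 := mv 0 4 3 (by decide) c0_4
  have c1_3 := mv 1 4 3 (by decide) c1_4
  have c9_4 := mv 9 5 4 (by decide) c5_9.symm
  have c0_2 := mv 0 3 2 (by decide) c0_3
  have c0_8 := mv 0 3 8 (by decide) c0_3
  have c1_8 := mv 1 3 8 (by decide) c1_3
  have c9_3 := mv 9 4 3 (by decide) c9_4
  have c0_9 := mv 0 8 9 (by decide) c0_8
  have c1_9 := mv 1 8 9 (by decide) c1_8
  have c8_2 := mv 8 1 2 (by decide) c1_8.symm
  have c9_2 := mv 9 3 2 (by decide) c9_3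
  intro x y hx hy hne hn
  interval_cases x <;> interval_cases y <;>
    first
    | exact absurd rfl hne
    | exact absurd hn (by decide)
    | exact c0_2
    | exact (c0_2).symm
    | exact c0_3
    | exact (c0_3).symm
    | exact c0_4
    | exact (c0_4).symm
    | exact c0_5
    | exact (c0_5).symm
    | exact c0_6
    | exact (c0_6).symm
    | exact c7_0.symm
    | exact (c7_0.symm).symm
    | exact c0_8
    | exact (c0_8).symm
    | exact c0_9
    | exact (c0_9).symm
    | exact c1_3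
    | exact (c1_3).symm
    | exact c1_4
    | exact (c1_4).symm
    | exact c1_5
    | exact (c1_5).symm
    | exact c1_6
    | exact (c1_6).symm
    | exact c7_1.symm
    | exact (c7_1.symm).symm
    | exact c1_8
    | exact (c1_8).symm
    | exact c1_9
    | exact (c1_9).symm
    | exact c2_4
    | exact (c2_4).symm
    | exact c2_5
    | exact (c2_5).symm
    | exact c2_6
    | exact (c2_6).symm
    | exact c7_2.symm
    | exact (c7_2.symm).symm
    | exact c8_2.symm
    | exact (c8_2.symm).symm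
    | exact c9_2.symm
    | exact (c9_2.symm).symm
    | exact c3_5
    | exact (c3_5).symm
    | exact c3_6
    | exact (c3_6).symm
    | exact c7_3.symm
    | exact (c7_3.symm).symm
    | exact c9_3.symm
    | exact (c9_3.symm).symm
    | exact c4_6
    | exact (c4_6).symm
    | exact c7_4.symm
    | exact (c7_4.symm).symm
    | exact c8_4.symm
    | exact (c8_4.symm).symm
    | exact c9_4.symm
    | exact (c9_4.symm).symm
    | exact c7_5.symm
    | exact (c7_5.symm).symm
    | exact c8_5.symm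
    | exact (c8_5.symm).symm
    | exact c5_9
    | exact (c5_9).symm
    | exact c8_6.symm
    | exact (c8_6.symm).symm
    | exact c9_6.symm
    | exact (c9_6.symm).symm
    | exact c7_8
    | exact (c7_8).symm
    | exact c7_9
    | exact (c7_9).symm

/-- Lifts satisfying all Coxeter relations and the relator of type `E₇`. -/
theorem exists_lifts (hs : Function.Surjective σ) :
    ∃ X : ℕ → Γ, (∀ x, x < 10 → σ (X x) = gen x) ∧ IsLift X 1 ∧ ev X e7W ^ 9 = 1 := by
  obtain ⟨X, hX, hbr, hsq, hs0⟩ := exists_braided σ hc hs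
  have hcm := comm_lifts σ hc X hX hbr hsq hs0
  generalize hS : X 0 * X 0 = s at hsq hs0
  generalize hV : ev X e7W ^ 9 = v
  have hσs : σ s = 1 := by rw [← hS, map_mul, hX 0 (by norm_num), gen_sq]
  have hσv : σ v = 1 := by rw [← hV, map_pow, map_ev σ X hX e7W (by decide)]; exact gen_e7
  generalize hT : s ^ 31 * v⁻¹ = t
  have hσt : σ t = 1 := by rw [← hT, map_mul, map_pow, map_inv, hσs, hσv]; simp
  have ht := central_of σ hc hσt
  have hv := central_of σ hc hσv
  let Y : ℕ → Γ := fun x => t * X x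
  have hY : IsLift Y (t ^ 2 * s) := by
    refine ⟨fun x hx => ?_, fun y => (((ht y).pow_left 2).mul_left (hs0 y)).eq, fun x y h => ?_, fun x y hx hy hne hn => ?_⟩
    · show t * X x * (t * X x) = _
      rw [← mul_assoc, mul_assoc t, ← (ht (X x)).eq, pow_two, ← hsq x hx]
      simp only [mul_assoc]
    · have h1 := ev_scale t X ht [x, y, x]
      have h2 := ev_scale t X ht [y, x, y]
      simp only [ev_cons, ev_nil, mul_one, List.length_cons, List.length_nil, ← mul_assoc] at h1 h2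
      show t * X x * (t * X y) * (t * X x) = t * X y * (t * X x) * (t * X y)
      rw [← mul_assoc, ← mul_assoc, ← mul_assoc, ← mul_assoc, h1, h2, mul_assoc, mul_assoc,
        ← mul_assoc (X x), hbr x y h]
      simp only [mul_assoc]
    · have h1 := ev_scale t X ht [x, y]
      have h2 := ev_scale t X ht [y, x]
      simp only [ev_cons, ev_nil, mul_one, List.length_cons, List.length_nil] at h1 h2
      show t * X x * (t * X y) = t * X y * (t * X x)
      rw [h1, h2, (hcm x y hx hy hne hn).eq]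
  have hvY : ev Y e7W ^ 9 = t ^ 63 * v := by
    rw [ev_scale t X ht, ((ht _).pow_left _).mul_pow, ← pow_mul, hV]
    rfl
  have hI1 : (ev Y e7W ^ 9) ^ 2 = (t ^ 2 * s) ^ 63 := by
    rw [← pow_mul, ← ev_of_reducesTo hY certI1]
    simp only [ev, e7W, List.replicate, List.flatten_cons, List.flatten_nil, List.map_append,
      List.map_nil, List.prod_append, List.prod_nil, mul_one, pow_succ', pow_zero]
  have hvs : ev Y e7W ^ 9 = (t ^ 2 * s) ^ 31 := by
    have e : t ^ 63 = t ^ (2 * 31) * t := pow_succ t 62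
    rw [hvY, ((ht s).pow_left 2).mul_pow, ← pow_mul, e, mul_assoc]
    congr 1
    rw [← hT, inv_mul_cancel_right]
  have hs1 : t ^ 2 * s = 1 := by
    rw [hvs, ← pow_mul] at hI1
    exact mul_eq_left.mp ((pow_succ (t ^ 2 * s) 62).symm.trans hI1.symm)
  refine ⟨Y, fun x hx => ?_, hs1 ▸ hY, ?_⟩
  · show σ (t * X x) = gen x
    rw [map_mul, hσt, one_mul, hX x hx]
  · rw [hvs, hs1, one_pow]

end

end CfsgLib.Fi23Mult
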