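import Cfsg.Agent.Fi23Mult.Moves
import Cfsg.Prelude.Def_Spor_Fi23
import Mathlib.Algebra.Group.Subgroup.Basic
import Mathlib.Tactic

/-!
Lifts of the generators of the presented `Fi₂₃` to a central extension: they can be chosen to
satisfy all the Coxeter relations of the diagram and the relator of type `E₇`.
-/

set_option autoImplicit false

namespace CfsgLib.Fi23Mult

open Cfsg.Spor

/-- The number of a generator. -/
def ix : Fi23.Gen → ℕ
  | .a => 0 | .b => 1 | .c => 2 | .d => 3 | .e => 4 | .f => 5 | .g => 6 | .j => 7 | .h => 8 | .i => 9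

/-- The generator of a number. -/
def en : ℕ → Fi23.Gen
  | 0 => .a | 1 => .b | 2 => .c | 3 => .d | 4 => .e | 5 => .f | 6 => .g | 7 => .j | 8 => .h | _ => .i

theorem en_ix (x : Fi23.Gen) : en (ix x) = x := by cases x <;> rfl

theorem ix_lt (x : Fi23.Gen) : ix x < 10 := by cases x <;> decide

theorem node (x : Fi23.Gen) : x ∈ coxNodes Fi23.edges := by cases x <;> decide

theorem label_eq (x y : Fi23.Gen) :
    coxLabel Fi23.edges x y = if x = y then 1 else if adj (ix x) (ix y) then 3 else 2 := by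
  cases x <;> cases y <;> rfl

/-- The generators by their numbers. -/
noncomputable def gen (x : ℕ) : Cfsg.Spor.Fi23 := PresentedGroup.of (en x)

theorem gen_rel (x y : Fi23.Gen) :
    ((PresentedGroup.of x : Cfsg.Spor.Fi23) * PresentedGroup.of y) ^ coxLabel Fi23.edges x y = 1 := by
  have := PresentedGroup.one_of_mem (rels := coxRelators Fi23.edges ∪ {r | r ∈ Fi23.extra})
    (x := (FreeGroup.of x * FreeGroup.of y) ^ coxLabel Fi23.edges x y)
    (Or.inl ⟨x, node x, y, node y, rfl⟩)
  rw [map_pow, map_mul] at this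
  exact this

theorem gen_sq (x : ℕ) : gen x * gen x = 1 := by
  simpa [gen, label_eq] using gen_rel (en x) (en x)

theorem gen_inv (x : ℕ) : (gen x)⁻¹ = gen x := inv_eq_of_mul_eq_one_right (gen_sq x)

theorem gen_braid {x y : ℕ} (hx : x < 10) (hy : y < 10) (h : adj x y = true) :
    gen x * gen y * gen x = gen y * gen x * gen y := by
  have hix : ix (en x) = x ∧ ix (en y) = y := ⟨by interval_cases x <;> rfl, by interval_cases y <;> rfl⟩
  have hne : en x ≠ en y := fun e => by
    have hxy : x = y := by rw [← hix.1, e, hix.2]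
    subst hxy; revert h; interval_cases x <;> decide
  have h3 := gen_rel (en x) (en y)
  rw [label_eq, if_neg hne, hix.1, hix.2, if_pos h] at h3
  change (gen x * gen y) ^ 3 = 1 at h3
  calc gen x * gen y * gen x = gen x * gen y * gen x * (gen y * gen x * gen y) * (gen y * gen x * gen y)⁻¹ := by
        group
    _ = (gen x * gen y) ^ 3 * (gen y * gen x * gen y)⁻¹ := by rw [pow_three]; group
    _ = _ := by rw [h3, one_mul, mul_inv_rev, mul_inv_rev, gen_inv, gen_inv, mul_assoc]

theorem gen_comm {x y : ℕ} (hx : x < 10) (hy : y < 10) (hxy : x ≠ y) (h : adj x y = false) :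
    gen x * gen y = gen y * gen x := by
  have hix : ix (en x) = x ∧ ix (en y) = y := ⟨by interval_cases x <;> rfl, by interval_cases y <;> rfl⟩
  have hne : en x ≠ en y := fun e => hxy (by rw [← hix.1, e, hix.2])
  have h2 := gen_rel (en x) (en y)
  rw [label_eq, if_neg hne, hix.1, hix.2, if_neg (by simp [h])] at h2
  change (gen x * gen y) ^ 2 = 1 at h2
  rw [pow_two] at h2
  rw [eq_inv_of_mul_eq_one_left h2, mul_inv_rev, gen_inv, gen_inv]

theorem gen_e7 : ev gen [0, 1, 2, 3, 4, 5, 8] ^ 9 = 1 := by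
  have := PresentedGroup.one_of_mem (rels := coxRelators Fi23.edges ∪ {r | r ∈ Fi23.extra})
    (x := (Fi23.a * Fi23.b * Fi23.c * Fi23.d * Fi23.e * Fi23.f * Fi23.h) ^ 9)
    (Or.inr (by simp [Fi23.extra]))
  simp only [map_pow, map_mul] at this
  simp only [ev, List.map_cons, List.map_nil, List.prod_cons, List.prod_nil, mul_one, ← mul_assoc]
  exact this

theorem gen_spider : ev gen [3, 2, 1, 3, 4, 5, 3, 8, 9] ^ 10 = 1 := by
  have := PresentedGroup.one_of_mem (rels := coxRelators Fi23.edges ∪ {r | r ∈ Fi23.extra})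
    (x := (Fi23.d * Fi23.c * Fi23.b * Fi23.d * Fi23.e * Fi23.f * Fi23.d * Fi23.h * Fi23.i) ^ 10)
    (Or.inr (by simp [Fi23.extra]))
  simp only [map_pow, map_mul] at this
  simp only [ev, List.map_cons, List.map_nil, List.prod_cons, List.prod_nil, mul_one, ← mul_assoc]
  exact this

theorem adj_symm (x y : ℕ) : adj x y = adj y x := by
  unfold adj
  congr 1
  funext p
  exact Bool.or_comm _ _

section

variable {Γ : Type*} [Group Γ] (σ : Γ →* Cfsg.Spor.Fi23)

theorem map_ev (X : ℕ → Γ) (hX : ∀ x, x < 10 → σ (X x) = gen x) (w : List ℕ) (hw : ∀ x ∈ w, x < 10) :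
    σ (ev X w) = ev gen w := by
  induction w with
  | nil => simp [ev]
  | cons x w ih =>
    rw [ev_cons, ev_cons, map_mul, hX x (hw x List.mem_cons_self),
      ih fun y hy => hw y (List.mem_cons_of_mem x hy)]

variable (hc : σ.ker ≤ Subgroup.center Γ)

include hc

theorem central_of {z : Γ} (hz : σ z = 1) (y : Γ) : Commute z y :=
  ((Subgroup.mem_center_iff.mp (hc hz)) y).symm

/-- A lift may be moved by the kernel so that the braid relation holds exactly. -/
theorem exists_braid (hs : Function.Surjective σ) (X : Γ) {x y : ℕ} (hx : σ X = gen x)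
    (hb : gen x * gen y * gen x = gen y * gen x * gen y) :
    ∃ Y, σ Y = gen y ∧ X * Y * X = Y * X * Y := by
  obtain ⟨Y, hY⟩ := hs (gen y)
  have hz : σ (X * Y * X * (Y * X * Y)⁻¹) = 1 := by
    simp only [map_mul, map_inv, hx, hY]
    rw [hb, mul_inv_cancel]
  generalize hzz : X * Y * X * (Y * X * Y)⁻¹ = z at hz
  have hz' := central_of σ hc hz
  refine ⟨z * Y, by rw [map_mul, hz, hY, one_mul], ?_⟩
  have h1 : X * Y * X = z * (Y * X * Y) := by rw [← hzz, inv_mul_cancel_right]
  calc X * (z * Y) * X = z * (X * Y * X) := by rw [← mul_assoc X, ← (hz' X).eq]; simp only [mul_assoc]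
    _ = z * z * (Y * X * Y) := by rw [h1]; simp only [mul_assoc]
    _ = z * Y * X * (z * Y) := by
      rw [show z * Y * X * (z * Y) = z * (Y * X * z) * Y by simp only [mul_assoc],
        ← (hz' (Y * X)).eq]
      simp only [mul_assoc]

omit hc in
theorem sq_eq_of_braid {X Y : Γ} (h : X * Y * X = Y * X * Y) (hs : ∀ y, Commute (X * X) y) :
    Y * Y = X * X := by
  have h1 : Y = X * Y * X * (X * Y)⁻¹ := by rw [h]; group
  calc Y * Y = (X * Y * X * (X * Y)⁻¹) * (X * Y * X * (X * Y)⁻¹) := by rw [← h1]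
    _ = X * Y * (X * X) * (X * Y)⁻¹ := by group
    _ = X * X := by rw [← (hs (X * Y)).eq]; group

/-- Lifts satisfying the braid relations exactly, with one common square. -/
theorem exists_braided (hs : Function.Surjective σ) :
    ∃ X : ℕ → Γ, (∀ x, x < 10 → σ (X x) = gen x) ∧
      (∀ x y, adj x y = true → X x * X y * X x = X y * X x * X y) ∧
      (∀ x, x < 10 → X x * X x = X 0 * X 0) ∧ ∀ y, Commute (X 0 * X 0) y := by
  obtain ⟨A, hA⟩ := hs (gen 0)
  have hb : ∀ x y, x < 10 → y < 10 → adj x y = true → gen x * gen y * gen x = gen y * gen x * gen y :=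
    fun x y hx hy h => gen_braid hx hy h
  obtain ⟨B, hB, hAB⟩ := exists_braid σ hc hs A hA (hb 0 1 (by norm_num) (by norm_num) rfl)
  obtain ⟨C, hC, hBC⟩ := exists_braid σ hc hs B hB (hb 1 2 (by norm_num) (by norm_num) rfl)
  obtain ⟨D, hD, hCD⟩ := exists_braid σ hc hs C hC (hb 2 3 (by norm_num) (by norm_num) rfl)
  obtain ⟨E, hE, hDE⟩ := exists_braid σ hc hs D hD (hb 3 4 (by norm_num) (by norm_num) rfl)
  obtain ⟨F, hF, hEF⟩ := exists_braid σ hc hs E hE (hb 4 5 (by norm_num) (by norm_num) rfl)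
  obtain ⟨G, hG, hFG⟩ := exists_braid σ hc hs F hF (hb 5 6 (by norm_num) (by norm_num) rfl)
  obtain ⟨J, hJ, hGJ⟩ := exists_braid σ hc hs G hG (hb 6 7 (by norm_num) (by norm_num) rfl)
  obtain ⟨H, hH, hDH⟩ := exists_braid σ hc hs D hD (hb 3 8 (by norm_num) (by norm_num) rfl)
  obtain ⟨I, hI, hHI⟩ := exists_braid σ hc hs H hH (hb 8 9 (by norm_num) (by norm_num) rfl)
  let X : ℕ → Γ := fun x => match x with
    | 0 => A | 1 => B | 2 => C | 3 => D | 4 => E | 5 => F | 6 => G | 7 => J | 8 => H | _ => I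
  have hX : ∀ x, x < 10 → σ (X x) = gen x := by
    intro x hx; interval_cases x <;> assumption
  have hbr : ∀ x y, adj x y = true → X x * X y * X x = X y * X x * X y := by
    intro x y h
    simp only [adj, List.any_cons, List.any_nil, Bool.or_false, Bool.or_eq_true, Bool.and_eq_true,
      Nat.beq_eq] at h
    rcases h with h | h | h | h | h | h | h | h | h <;>
      rcases h with ⟨rfl, rfl⟩ | ⟨rfl, rfl⟩ <;>
      first | assumption | exact Eq.symm (by assumption)
  have hs0 : ∀ y, Commute (A * A) y := central_of σ hc (by rw [map_mul, hA, gen_sq])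
  have eB := sq_eq_of_braid hAB hs0
  have eC := (sq_eq_of_braid hBC (eB ▸ hs0)).trans eB
  have eD := (sq_eq_of_braid hCD (eC ▸ hs0)).trans eC
  have eE := (sq_eq_of_braid hDE (eD ▸ hs0)).trans eD
  have eF := (sq_eq_of_braid hEF (eE ▸ hs0)).trans eE
  have eG := (sq_eq_of_braid hFG (eF ▸ hs0)).trans eF
  have eJ := (sq_eq_of_braid hGJ (eG ▸ hs0)).trans eG
  have eH := (sq_eq_of_braid hDH (eD ▸ hs0)).trans eD
  have eI := (sq_eq_of_braid hHI (eH ▸ hs0)).trans eH
  refine ⟨X, hX, hbr, ?_, hs0⟩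
  intro x hx
  interval_cases x <;> first | rfl | assumption

/-- Commutation of lifts moves along an edge. -/
theorem comm_move {X Y Y' : Γ} {x y' : ℕ} (hX : σ X = gen x) (hY' : σ Y' = gen y')
    (hb : Y * Y' * Y = Y' * Y * Y') (hg : gen x * gen y' = gen y' * gen x)
    (hXY : Commute X Y) : Commute X Y' := by
  have hz : σ (X * Y' * X⁻¹ * Y'⁻¹) = 1 := by
    simp only [map_mul, map_inv, hX, hY', hg]
    group
  generalize hzz : X * Y' * X⁻¹ * Y'⁻¹ = z at hz
  have hz' := central_of σ hc hz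
  have h1 : X * Y' * X⁻¹ = z * Y' := by rw [← hzz]; group
  have h2 : X * Y * X⁻¹ = Y := by rw [hXY.eq, mul_inv_cancel_right]
  have e1 : X * (Y * Y' * Y) * X⁻¹ = z * (Y * Y' * Y) := by
    rw [show X * (Y * Y' * Y) * X⁻¹ = X * Y * X⁻¹ * (X * Y' * X⁻¹) * (X * Y * X⁻¹) by group, h1, h2,
      ← mul_assoc Y, ← (hz' Y).eq]
    simp only [mul_assoc]
  have e2 : X * (Y' * Y * Y') * X⁻¹ = z * z * (Y' * Y * Y') := by
    rw [show X * (Y' * Y * Y') * X⁻¹ = X * Y' * X⁻¹ * (X * Y * X⁻¹) * (X * Y' * X⁻¹) by group, h1, h2,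
      show z * Y' * Y * (z * Y') = z * (Y' * Y * z) * Y' by simp only [mul_assoc], ← (hz' (Y' * Y)).eq]
    simp only [mul_assoc]
  rw [hb, e2] at e1
  have hz1 : z = 1 := by
    have := mul_right_cancel e1
    exact mul_eq_left.mp this
  rw [hz1, one_mul] at h1
  exact mul_inv_eq_iff_eq_mul.mp h1

end

end CfsgLib.Fi23Mult
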