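import Cfsg.Agent.CosetEnum.Fi23Simple.Transposition
import Cfsg.Agent.Fi23Mult.ConjPiece0
import Cfsg.Agent.Fi23Mult.ConjPiece1
import Cfsg.Agent.Fi23Mult.ConjPiece2
import Cfsg.Agent.Fi23Mult.ConjPiece3
import Cfsg.Agent.Fi23Mult.Lifts

/-!
A word of the presented `Fi₂₃` is trivial as soon as it fixes the ten points belonging to the generators.
-/

set_option autoImplicit false
set_option maxRecDepth 100000
set_option linter.style.haveILetI false
set_option linter.constructorNameAsVariable false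

namespace CfsgLib.Fi23Mult

open CfsgLib.CosetEnum

theorem gen_eq (x : ℕ) : gen x = (Fi23.setup.g x : Cfsg.Spor.Fi23) := by
  rcases x with _ | _ | _ | _ | _ | _ | _ | _ | _ | _ | n <;> rfl

theorem prodw_eq_ev (w : List ℕ) : (prodw Fi23.setup.g w : Cfsg.Spor.Fi23) = ev gen w :=
  congrArg (fun f : ℕ → Cfsg.Spor.Fi23 => (w.map f).prod) (funext gen_eq).symm

/-- The transposition of the base point. -/
noncomputable def zF : Cfsg.Spor.Fi23 := Fi23H.zEl

/-- The word conjugating the transposition of the base point to the last generator. -/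
def conjBase : List ℕ := [7, 6, 5, 4, 3, 2, 8, 3, 4, 5, 6, 7] ++ tailW

theorem conjBase_lt : ∀ x ∈ conjBase, x < 10 := by decide

theorem conj_piece (i : ℕ) (hi : i < 31671) : conjEntry i = true := by
  have hk : i / 1024 < 31 := by omega
  have h1 : i / 1024 * 1024 ≤ i := Nat.div_mul_le_self i 1024
  have h2 : i < i / 1024 * 1024 + 2 ^ 10 := by omega
  generalize i / 1024 = k at hk h1 h2
  interval_cases k
  · exact allR_spec 10 0 conjPiece0 i h1 h2
  · exact allR_spec 10 1024 conjPiece1 i h1 h2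
  · exact allR_spec 10 2048 conjPiece2 i h1 h2
  · exact allR_spec 10 3072 conjPiece3 i h1 h2
  · exact allR_spec 10 4096 conjPiece4 i h1 h2
  · exact allR_spec 10 5120 conjPiece5 i h1 h2
  · exact allR_spec 10 6144 conjPiece6 i h1 h2
  · exact allR_spec 10 7168 conjPiece7 i h1 h2
  · exact allR_spec 10 8192 conjPiece8 i h1 h2
  · exact allR_spec 10 9216 conjPiece9 i h1 h2
  · exact allR_spec 10 10240 conjPiece10 i h1 h2
  · exact allR_spec 10 11264 conjPiece11 i h1 h2
  · exact allR_spec 10 12288 conjPiece12 i h1 h2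
  · exact allR_spec 10 13312 conjPiece13 i h1 h2
  · exact allR_spec 10 14336 conjPiece14 i h1 h2
  · exact allR_spec 10 15360 conjPiece15 i h1 h2
  · exact allR_spec 10 16384 conjPiece16 i h1 h2
  · exact allR_spec 10 17408 conjPiece17 i h1 h2
  · exact allR_spec 10 18432 conjPiece18 i h1 h2
  · exact allR_spec 10 19456 conjPiece19 i h1 h2
  · exact allR_spec 10 20480 conjPiece20 i h1 h2
  · exact allR_spec 10 21504 conjPiece21 i h1 h2
  · exact allR_spec 10 22528 conjPiece22 i h1 h2
  · exact allR_spec 10 23552 conjPiece23 i h1 h2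
  · exact allR_spec 10 24576 conjPiece24 i h1 h2
  · exact allR_spec 10 25600 conjPiece25 i h1 h2
  · exact allR_spec 10 26624 conjPiece26 i h1 h2
  · exact allR_spec 10 27648 conjPiece27 i h1 h2
  · exact allR_spec 10 28672 conjPiece28 i h1 h2
  · exact allR_spec 10 29696 conjPiece29 i h1 h2
  · exact allR_spec 10 30720 conjPiece30 i h1 h2

variable (φ : Fi23.setup.Grp →* Equiv.Perm (Fin Fi23H.enum.n))
  (hφ : ∀ (w : List ℕ), (∀ x ∈ w, x < Fi23.setup.k) → ∀ i : Fin Fi23H.enum.n,
    ((φ (prodw Fi23.setup.g w))⁻¹ i).val = walk Fi23H.enum.tb w i)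

include hφ in
theorem z_conj_last (hinj : Function.Injective φ) :
    (prodw Fi23.setup.g conjBase)⁻¹ * Fi23H.zEl * prodw Fi23.setup.g conjBase =
      prodw Fi23.setup.g [9] := by
  have e : (prodw Fi23.setup.g conjBase)⁻¹ * Fi23H.zEl * prodw Fi23.setup.g conjBase =
      prodw Fi23.setup.g tailW.reverse * Fi23H.el39 * prodw Fi23.setup.g tailW := by
    have hr : prodw Fi23.setup.g tailW.reverse = (prodw Fi23.setup.g tailW)⁻¹ := by
      exact (prodw_eq_ev _).trans ((ev_reverse (fun x _ => gen_sq x) tailW (by decide)).trans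
        (congrArg (fun y : Cfsg.Spor.Fi23 => y⁻¹) (prodw_eq_ev _)).symm)
    rw [Fi23.el39_eq, hr, show conjBase = [7, 6, 5, 4, 3, 2, 8, 3, 4, 5, 6, 7] ++ tailW from rfl,
      prodw_append, mul_inv_rev]
    simp only [mul_assoc]
  rw [e]
  apply hinj
  apply inv_injective
  ext i
  have h1 := conj_piece i.val i.isLt
  unfold conjEntry at h1
  rw [show Nat.blt i.val 31671 = true from Nat.blt_eq.mpr i.isLt] at h1
  simp only [cond_true] at h1
  rw [hφ [9] (fun x hx => by rw [List.mem_singleton.mp hx]; exact (show (9 : ℕ) < 10 by decide)),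
    map_mul, map_mul, mul_inv_rev, mul_inv_rev, Equiv.Perm.mul_apply, Equiv.Perm.mul_apply,
    hφ tailW (show ∀ x ∈ tailW, x < 10 by decide), Fi23H.img39 φ hφ,
    hφ tailW.reverse (show ∀ x ∈ tailW.reverse, x < 10 by decide)]
  exact Nat.eq_of_beq_eq_true h1

/-- The words conjugating the transposition of the base point to the generators. -/
def conjTo : ℕ → List ℕ
  | 0 => conjBase ++ [8, 9] ++ [3, 8] ++ [2, 3] ++ [1, 2] ++ [0, 1]
  | 1 => conjBase ++ [8, 9] ++ [3, 8] ++ [2, 3] ++ [1, 2]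
  | 2 => conjBase ++ [8, 9] ++ [3, 8] ++ [2, 3]
  | 3 => conjBase ++ [8, 9] ++ [3, 8]
  | 4 => conjBase ++ [8, 9] ++ [3, 8] ++ [4, 3]
  | 5 => conjBase ++ [8, 9] ++ [3, 8] ++ [4, 3] ++ [5, 4]
  | 6 => conjBase ++ [8, 9] ++ [3, 8] ++ [4, 3] ++ [5, 4] ++ [6, 5]
  | 7 => conjBase ++ [8, 9] ++ [3, 8] ++ [4, 3] ++ [5, 4] ++ [6, 5] ++ [7, 6]
  | 8 => conjBase ++ [8, 9]
  | _ => conjBase

theorem conjTo_lt (x : ℕ) (hx : x < 10) : ∀ y ∈ conjTo x, y < 10 := by
  interval_cases x <;> decide

theorem conj_step {x y : ℕ} (hx : x < 10) (hy : y < 10) (h : adj x y = true) :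
    (gen y * gen x)⁻¹ * gen x * (gen y * gen x) = gen y := by
  rw [mul_inv_rev, gen_inv, gen_inv]
  calc gen x * gen y * gen x * (gen y * gen x) = gen y * gen x * gen y * (gen y * gen x) := by
        rw [gen_braid hx hy h]
    _ = gen y * gen x * (gen y * gen y) * gen x := by simp only [mul_assoc]
    _ = gen y := by rw [gen_sq, mul_one, mul_assoc, gen_sq, mul_one]

include hφ in
theorem z_conj (hinj : Function.Injective φ) (x : ℕ) (hx : x < 10) :
    (ev gen (conjTo x))⁻¹ * zF * ev gen (conjTo x) = gen x := by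
  have h9 : (ev gen conjBase)⁻¹ * zF * ev gen conjBase = gen 9 := by
    have h := z_conj_last φ hφ hinj
    rw [show prodw Fi23.setup.g [9] = Fi23.setup.g 9 by simp [prodw]] at h
    rw [← prodw_eq_ev, gen_eq]
    exact h
  have hs : ∀ (W : List ℕ) (p q : ℕ), (ev gen W)⁻¹ * zF * ev gen W = gen p → p < 10 → q < 10 →
      adj p q = true → (ev gen (W ++ [q, p]))⁻¹ * zF * ev gen (W ++ [q, p]) = gen q := by
    intro W p q hW hp hq h
    rw [ev_append, show ev gen [q, p] = gen q * gen p by simp [ev]]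
    calc (ev gen W * (gen q * gen p))⁻¹ * zF * (ev gen W * (gen q * gen p))
        = (gen q * gen p)⁻¹ * ((ev gen W)⁻¹ * zF * ev gen W) * (gen q * gen p) := by group
      _ = gen q := by rw [hW, conj_step hp hq h]
  have h8 := hs _ 9 8 h9 (by norm_num) (by norm_num) rfl
  have h3 := hs _ 8 3 h8 (by norm_num) (by norm_num) rfl
  have h2 := hs _ 3 2 h3 (by norm_num) (by norm_num) rfl
  have h1 := hs _ 2 1 h2 (by norm_num) (by norm_num) rfl
  have h0 := hs _ 1 0 h1 (by norm_num) (by norm_num) rfl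
  have h4 := hs _ 3 4 h3 (by norm_num) (by norm_num) rfl
  have h5 := hs _ 4 5 h4 (by norm_num) (by norm_num) rfl
  have h6 := hs _ 5 6 h5 (by norm_num) (by norm_num) rfl
  have h7 := hs _ 6 7 h6 (by norm_num) (by norm_num) rfl
  interval_cases x
  · exact h0
  · exact h1
  · exact h2
  · exact h3
  · exact h4
  · exact h5
  · exact h6
  · exact h7
  · exact h8
  · exact h9

/-- A word fixing the points of all ten generators is trivial. -/
theorem ev_eq_one (w : List ℕ) (hw : w.all (fun x => Nat.blt x 10) = true)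
    (h : (List.range 10).all (fun x =>
      Nat.beq (walk Fi23H.enum.tb w (walk Fi23H.enum.tb (conjTo x) 0))
        (walk Fi23H.enum.tb (conjTo x) 0)) = true) :
    ev gen w = 1 := by
  haveI := Fi23.finite_grp
  haveI hsimple : IsSimpleGroup Cfsg.Spor.Fi23 := Fi23.isSimpleGroup_Fi23
  obtain ⟨φ, e, hφ, he, he0, hinj, -, -, ψ, -, hk2, hker⟩ := Fi23.order_and_action
  have hw' : ∀ x ∈ w, x < Fi23.setup.k := fun x hx =>
    Nat.blt_eq.mp (List.all_eq_true.mp hw x hx)
  have hzc : ∀ y ∈ Fi23H.enum.H, y * Fi23H.zEl = Fi23H.zEl * y := by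
    intro y hy
    rw [Fi23.zEl_eq]
    obtain ⟨⟨k, hk⟩, hk1, -⟩ := (Nat.card_eq_two_iff' (1 : ψ.ker)).mp hk2
    have hkz : (k : Fi23.setup.Grp) = prodw Fi23.setup.g (Fi23.zWord.map Fi23.lm) :=
      (hker k hk).resolve_left fun h => hk1 (Subtype.ext h)
    have hc : (⟨y, hy⟩ : Fi23H.enum.H) * k * (⟨y, hy⟩ : Fi23H.enum.H)⁻¹ ∈ ψ.ker :=
      (MonoidHom.normal_ker ψ).conj_mem k hk _
    rcases hker _ hc with h | h
    · rw [mul_inv_eq_one, mul_eq_left] at h
      exact absurd (Subtype.ext h) hk1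
    · rw [← hkz]
      refine mul_inv_eq_iff_eq_mul.mp ?_
      simpa [hkz] using h
  have hcomm : ∀ x, x < 10 → ev gen w * gen x = gen x * ev gen w := by
    intro x hx
    have hfix := Nat.eq_of_beq_eq_true (List.all_eq_true.mp h x (List.mem_range.mpr hx))
    rw [← z_conj φ hφ hinj x hx, ← prodw_eq_ev, ← prodw_eq_ev]
    show (prodw Fi23.setup.g w : Fi23.setup.Grp) *
        ((prodw Fi23.setup.g (conjTo x))⁻¹ * Fi23H.zEl * prodw Fi23.setup.g (conjTo x)) =
      (prodw Fi23.setup.g (conjTo x))⁻¹ * Fi23H.zEl * prodw Fi23.setup.g (conjTo x) * prodw Fi23.setup.g w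
    generalize hy : prodw Fi23.setup.g w = y
    generalize hv : prodw Fi23.setup.g (conjTo x) = v
    have hlt : ∀ z ∈ conjTo x, z < Fi23.setup.k := conjTo_lt x hx
    have h0 : φ (v * y * v⁻¹) 0 = 0 := by
      have hq : ((φ v)⁻¹ 0).val = walk Fi23H.enum.tb (conjTo x) 0 := by
        rw [← hv, hφ _ hlt]; rfl
      have hyq : (φ y)⁻¹ ((φ v)⁻¹ 0) = (φ v)⁻¹ 0 := by
        refine Fin.ext ?_
        rw [← hy, hφ w hw', hq]
        exact hfix
      rw [map_mul, map_mul, map_inv, Equiv.Perm.mul_apply, Equiv.Perm.mul_apply,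
        ← Equiv.Perm.inv_eq_iff_eq.mp hyq]
      exact (φ v).apply_symm_apply 0
    have hH : v * y * v⁻¹ ∈ Fi23H.enum.H := by
      have h1 : e ((v * y * v⁻¹) • ((1 : Fi23.setup.Grp) : Fi23.setup.Grp ⧸ Fi23H.enum.H)) =
          e ((1 : Fi23.setup.Grp) : Fi23.setup.Grp ⧸ Fi23H.enum.H) := by
        rw [he, he0, h0]
      have h2 := e.injective h1
      rw [MulAction.Quotient.smul_coe, smul_eq_mul, mul_one, QuotientGroup.eq, mul_one] at h2
      exact inv_mem_iff.mp h2
    have h3 := hzc _ hH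
    calc y * (v⁻¹ * Fi23H.zEl * v) = v⁻¹ * (v * y * v⁻¹ * Fi23H.zEl) * v := by group
      _ = v⁻¹ * Fi23H.zEl * v * y := by rw [h3]; group
  have hmem : ev gen w ∈ Subgroup.center Cfsg.Spor.Fi23 := by
    rw [Subgroup.mem_center_iff]
    intro g
    have hg : g ∈ Subgroup.closure (Set.range (PresentedGroup.of : Cfsg.Spor.Fi23.Gen → Cfsg.Spor.Fi23)) := by
      rw [PresentedGroup.closure_range_of]; exact Subgroup.mem_top g
    induction hg using Subgroup.closure_induction with
    | mem g hg =>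
      obtain ⟨a, rfl⟩ := hg
      have := hcomm (ix a) (ix_lt a)
      rw [gen, en_ix] at this
      exact this.symm
    | one => simp
    | mul p q _ _ hp hq => rw [mul_assoc, hq, ← mul_assoc, hp, mul_assoc]
    | inv p _ hp => exact ((show Commute p (ev gen w) from hp).inv_left).eq
  have hbot : Subgroup.center Cfsg.Spor.Fi23 = ⊥ := by
    refine (IsSimpleGroup.eq_bot_or_eq_top_of_normal _ inferInstance).resolve_right fun htop => ?_
    letI : CommGroup Cfsg.Spor.Fi23 := Group.commGroupOfCenterEqTop htop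
    haveI : Finite Cfsg.Spor.Fi23 := Fi23.finite_grp
    have hp : (Nat.card Cfsg.Spor.Fi23).Prime := IsSimpleGroup.prime_card
    rw [Fi23.card_Fi23] at hp
    exact absurd hp (by norm_num)
  rw [hbot] at hmem
  exact Subgroup.mem_bot.mp hmem

/-- Two words acting alike on the points of the generators are equal. -/
theorem ev_eq_ev (v w : List ℕ) (hv : v.all (fun x => Nat.blt x 10) = true)
    (hw : w.all (fun x => Nat.blt x 10) = true)
    (h : (List.range 10).all (fun x =>
      Nat.beq (walk Fi23H.enum.tb (v ++ w.reverse) (walk Fi23H.enum.tb (conjTo x) 0))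
        (walk Fi23H.enum.tb (conjTo x) 0)) = true) :
    ev gen v = ev gen w := by
  have h1 := ev_eq_one (v ++ w.reverse) (by simp [List.all_append, hv, hw]) h
  rw [ev_append, ev_reverse (fun x _ => gen_sq x) w (fun x hx => by
    have := List.all_eq_true.mp hw x hx
    simpa using this)] at h1
  exact mul_inv_eq_one.mp h1

end CfsgLib.Fi23Mult
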