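import Cfsg.Agent.Fi23Mult.Faithful
import Cfsg.Agent.Fi23Mult.Cover

/-!
The word identities in `Fi₂₃` used for its multiplier, and the triviality of that multiplier.
-/

set_option autoImplicit false
set_option maxRecDepth 100000

namespace CfsgLib.Fi23Mult

open CfsgLib.CosetEnum

theorem groupFacts : GroupFacts where
  tB := ev_eq_ev _ _ (by decide) (by decide) (by decide +kernel)
  tC := ev_eq_ev _ _ (by decide) (by decide) (by decide +kernel)
  tE := ev_eq_ev _ _ (by decide) (by decide) (by decide +kernel)
  tF := ev_eq_ev _ _ (by decide) (by decide) (by decide +kernel)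
  rB := ev_eq_ev _ _ (by decide) (by decide) (by decide +kernel)
  rC := ev_eq_ev _ _ (by decide) (by decide) (by decide +kernel)
  rE := ev_eq_ev _ _ (by decide) (by decide) (by decide +kernel)
  rF := ev_eq_ev _ _ (by decide) (by decide) (by decide +kernel)

theorem trivial_multiplier : Cfsg.HasCyclicSchurMultiplier Cfsg.Spor.Fi23 1 :=
  haveI : Finite Cfsg.Spor.Fi23 := Fi23.finite_grp
  hasCyclicSchurMultiplier_one groupFacts

end CfsgLib.Fi23Mult
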