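import Mathlib.Algebra.Group.Commute.Defs
import Mathlib.Algebra.BigOperators.Group.List.Basic

/-!
A checker for word identities that follow from the Coxeter relations of the diagram `Y₃₄₂`
(letters `a b c d e f g j h i` numbered `0, …, 9`), with squares equal to a central element.
A certificate is a list of positions; at each the applicable move is forced by the letters.
-/

set_option autoImplicit false

namespace CfsgLib.Fi23Mult

/-- The edges of `Y₃₄₂` as unordered pairs of letters. -/
def adj (x y : ℕ) : Bool :=
  [(0, 1), (1, 2), (2, 3), (3, 4), (3, 8), (4, 5), (5, 6), (6, 7), (8, 9)].any fun p =>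
    (Nat.beq p.1 x && Nat.beq p.2 y) || (Nat.beq p.1 y && Nat.beq p.2 x)

/-- The move at the front of a word: cancellation, braid move or commutation. The number counts
cancellations. -/
def front (x y : ℕ) (r : List ℕ) : Option (List ℕ × ℕ) :=
  bif Nat.beq x y then (bif Nat.blt x 10 then some (r, 1) else none)
  else bif adj x y then
    match r with
    | [] => none
    | z :: r' => bif Nat.beq z x then some (y :: x :: y :: r', 0) else none
  else bif Nat.blt x 10 && Nat.blt y 10 then some (y :: x :: r, 0) else none

/-- One move at a position. -/
def step : List ℕ → ℕ → Option (List ℕ × ℕ)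
  | [], _ => none
  | x :: r, 0 =>
    match r with
    | [] => none
    | y :: r' => front x y r'
  | x :: r, p + 1 =>
    match step r p with
    | none => none
    | some (r', c) => some (x :: r', c)

/-- A sequence of moves, accumulating the number of cancellations. -/
def run : List ℕ → ℕ → List ℕ → Option (List ℕ × ℕ)
  | w, c, [] => some (w, c)
  | w, c, p :: ps =>
    match step w p with
    | none => none
    | some (w', d) => run w' (c + d) ps

/-- A word reduces to the empty one with `k` cancellations. -/
def reducesTo (w ps : List ℕ) (k : ℕ) : Bool :=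
  match run w 0 ps with
  | some ([], c) => Nat.beq c k
  | _ => false

/-- Elements satisfying the braid relations of the diagram, with one central common square. -/
structure IsLift {Γ : Type*} [Group Γ] (X : ℕ → Γ) (s : Γ) : Prop where
  sq : ∀ x, x < 10 → X x * X x = s
  cent : ∀ y : Γ, s * y = y * s
  braid : ∀ x y, adj x y = true → X x * X y * X x = X y * X x * X y
  comm : ∀ x y, x < 10 → y < 10 → x ≠ y → adj x y = false → X x * X y = X y * X x

/-- The value of a word. -/
def ev {Γ : Type*} [Group Γ] (X : ℕ → Γ) (w : List ℕ) : Γ := (w.map X).prod

section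

variable {Γ : Type*} [Group Γ] {X : ℕ → Γ} {s : Γ}

theorem ev_nil : ev X [] = 1 := rfl

theorem ev_cons (x : ℕ) (w : List ℕ) : ev X (x :: w) = X x * ev X w := by simp [ev]

theorem ev_append (v w : List ℕ) : ev X (v ++ w) = ev X v * ev X w := by simp [ev]

theorem front_sound (h : IsLift X s) (x y : ℕ) (r w' : List ℕ) (c : ℕ)
    (hw : front x y r = some (w', c)) : ev X (x :: y :: r) = s ^ c * ev X w' := by
  unfold front at hw
  cases hb : Nat.beq x y with
  | true =>
    obtain rfl := Nat.eq_of_beq_eq_true hb
    cases hx : Nat.blt x 10 with
    | false => simp [hx] at hw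
    | true =>
      simp only [hb, hx, cond_true, Option.some.injEq, Prod.mk.injEq] at hw
      obtain ⟨rfl, rfl⟩ := hw
      rw [ev_cons, ev_cons, ← mul_assoc, h.sq x (Nat.blt_eq.mp hx), pow_one]
  | false =>
    have hxy : x ≠ y := fun e => by subst e; rw [Nat.beq_refl] at hb; cases hb
    cases ha : adj x y with
    | true =>
      cases r with
      | nil => simp [hb, ha] at hw
      | cons z r' =>
        cases hz : Nat.beq z x with
        | false => simp [hb, ha, hz] at hw
        | true =>
          simp only [hb, ha, hz, cond_false, cond_true, Option.some.injEq, Prod.mk.injEq] at hw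
          obtain ⟨rfl, rfl⟩ := hw
          obtain rfl := Nat.eq_of_beq_eq_true hz
          rw [pow_zero, one_mul]
          simp only [ev_cons, ← mul_assoc]
          rw [h.braid z y ha]
    | false =>
      cases hx : Nat.blt x 10 with
      | false => simp [hb, ha, hx] at hw
      | true =>
        cases hy : Nat.blt y 10 with
        | false => simp [hb, ha, hx, hy] at hw
        | true =>
          simp only [hb, ha, hx, hy, cond_false, cond_true, Bool.and_self, Option.some.injEq,
            Prod.mk.injEq] at hw
          obtain ⟨rfl, rfl⟩ := hw
          rw [pow_zero, one_mul]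
          simp only [ev_cons, ← mul_assoc]
          rw [h.comm x y (Nat.blt_eq.mp hx) (Nat.blt_eq.mp hy) hxy ha]

theorem step_sound (h : IsLift X s) :
    ∀ (w : List ℕ) (p : ℕ) (w' : List ℕ) (c : ℕ), step w p = some (w', c) →
      ev X w = s ^ c * ev X w' := by
  intro w
  induction w with
  | nil => intro p w' c hw; simp [step] at hw
  | cons x r ih =>
    intro p w' c hw
    cases p with
    | zero =>
      cases r with
      | nil => simp [step] at hw
      | cons y r' => exact front_sound h x y r' w' c (by simpa [step] using hw)
    | succ p =>
      rw [step] at hw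
      cases hs : step r p with
      | none => simp [hs] at hw
      | some q =>
        obtain ⟨r', c'⟩ := q
        simp only [hs, Option.some.injEq, Prod.mk.injEq] at hw
        obtain ⟨rfl, rfl⟩ := hw
        rw [ev_cons, ev_cons, ih p r' c' hs, ← mul_assoc, ← mul_assoc]
        have hc : Commute s (X x) := h.cent (X x)
        rw [(hc.pow_left c').eq]

theorem run_sound (h : IsLift X s) :
    ∀ (ps w : List ℕ) (c : ℕ) (w' : List ℕ) (d : ℕ), run w c ps = some (w', d) →
      s ^ c * ev X w = s ^ d * ev X w' := by
  intro ps
  induction ps with
  | nil => intro w c w' d hw; simp only [run, Option.some.injEq, Prod.mk.injEq] at hw; rw [hw.1, hw.2]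
  | cons p ps ih =>
    intro w c w' d hw
    rw [run] at hw
    cases hs : step w p with
    | none => simp [hs] at hw
    | some q =>
      obtain ⟨w₁, c₁⟩ := q
      simp only [hs] at hw
      rw [step_sound h w p w₁ c₁ hs, ← mul_assoc, ← pow_add]
      exact ih w₁ (c + c₁) w' d hw

theorem ev_of_reducesTo (h : IsLift X s) {w ps : List ℕ} {k : ℕ} (hr : reducesTo w ps k = true) :
    ev X w = s ^ k := by
  unfold reducesTo at hr
  cases hs : run w 0 ps with
  | none => simp [hs] at hr
  | some q =>
    obtain ⟨w', c⟩ := q
    cases w' with
    | nil =>
      simp only [hs] at hr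
      have := run_sound h ps w 0 [] c hs
      simpa [ev_nil, Nat.eq_of_beq_eq_true hr] using this
    | cons a b => simp [hs] at hr

theorem ev_reverse (hsq : ∀ x, x < 10 → X x * X x = 1) :
    ∀ w : List ℕ, (∀ x ∈ w, x < 10) → ev X w.reverse = (ev X w)⁻¹ := by
  intro w
  induction w with
  | nil => intro _; simp [ev]
  | cons x w ih =>
    intro hw
    rw [List.reverse_cons, ev_append, ih (fun y hy => hw y (List.mem_cons_of_mem x hy)), ev_cons,
      ev_cons, ev_nil, mul_one, mul_inv_rev,
      inv_eq_of_mul_eq_one_right (hsq x (hw x List.mem_cons_self))]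

/-- An identity between two words, certified by reducing `v · w⁻¹`. -/
theorem ev_eq_of_reducesTo (h : IsLift X 1) {v w ps : List ℕ} {k : ℕ}
    (hr : reducesTo (v ++ w.reverse) ps k = true) (hw : w.all (fun x => Nat.blt x 10) = true) :
    ev X v = ev X w := by
  have h1 := ev_of_reducesTo h hr
  rw [one_pow, ev_append, ev_reverse h.sq w (fun x hx => by
    have := List.all_eq_true.mp hw x hx
    simpa using this)] at h1
  exact mul_inv_eq_one.mp h1

end

end CfsgLib.Fi23Mult
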