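import Cfsg.Agent.CosetEnum.Fi23Order.Transpositions

/-!
The transposition at the base point of the action of `Fi₂₃`, conjugated by a word, against a generator.
-/

set_option autoImplicit false

namespace CfsgLib.Fi23Mult

open CfsgLib.CosetEnum

noncomputable section

/-- The part of the conjugating word following a tabulated conjugation. -/
def tailW : List ℕ :=
  [9, 8, 3, 2, 4, 3, 5, 4, 6, 5, 8, 3, 2, 4, 3, 8]

/-- The conjugate agrees with the last generator at a point. -/
def conjEntry (i : ℕ) : Bool :=
  bif Nat.blt i 31671 then
    Nat.beq (walk Fi23H.enum.tb tailW (ext Fi23H.w39 (walk Fi23H.enum.tb tailW.reverse i)))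
      (walk Fi23H.enum.tb [9] i)
  else true

end

end CfsgLib.Fi23Mult
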